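import Cfsg.Agent.SimpleFacts.SLTwoMultiplier
import Cfsg.Agent.S3979
import Cfsg.Prelude.Def_KGroupFacts

/-!
# Sylow bounds for kernels of stem extensions, and fibre products of covers
-/

set_option autoImplicit false

namespace Cfsg.Agent.SimpleFacts.AltMult.Tools

open SLTwoMultiplier

universe u v w

section bound

variable {Γ : Type} [Group Γ] [Finite Γ] {G : Type} [Group G] [Finite G]

/-- The Sylow part of the kernel of a stem extension divides the multiplier of a Sylow subgroup. -/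
theorem card_inf_sylow_dvd (σ : Γ →* G) (hσ : Cfsg.IsStemExtension σ) {r : ℕ} [Fact r.Prime]
    {Q : Type} [Group Q] [Finite Q] {m : ℕ} (hQ : Cfsg.HasCyclicSchurMultiplier Q m) (ι : Q →* G)
    (hι : Function.Injective ι) {k : ℕ} (hk : Nat.card Q = r ^ k) (hGk : ¬ r ^ (k + 1) ∣ Nat.card G)
    (P : Sylow r Γ) : Nat.card ↥(σ.ker ⊓ (P : Subgroup Γ)) ∣ m := by
  have hr : r.Prime := Fact.out
  let R : Sylow r G := IsPGroup.toSylow
    (IsPGroup.of_card (G := ι.range) (n := k)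
      (by rw [← Nat.card_congr (MonoidHom.ofInjective hι).toEquiv]; exact hk))
    (fun hdvd => hGk (by
      rw [← ι.range.card_mul_index, ← Nat.card_congr (MonoidHom.ofInjective hι).toEquiv, hk, pow_succ]
      exact Nat.mul_dvd_mul_left _ hdvd))
  let e : ↥((P : Subgroup Γ).map σ) ≃* Q :=
    ((Sylow.equiv (P.mapSurjective hσ.1) R).trans (MulEquiv.subgroupCongr (IsPGroup.toSylow_coe _ _))).trans
      (MonoidHom.ofInjective hι).symm
  let σP : ↥(P : Subgroup Γ) →* Q := e.toMonoidHom.comp (σ.subgroupMap (P : Subgroup Γ))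
  have hker : ∀ x : ↥(P : Subgroup Γ), x ∈ σP.ker ↔ (x : Γ) ∈ σ.ker := fun x => by
    rw [MonoidHom.mem_ker, MonoidHom.mem_ker]
    exact (map_eq_one_iff e e.injective).trans Subtype.ext_iff
  have hstem : Cfsg.IsStemExtension σP := by
    refine ⟨e.surjective.comp (σ.subgroupMap_surjective _), fun x hx => ?_, fun x hx => ?_⟩
    · rw [Subgroup.mem_center_iff]
      exact fun y => Subtype.ext (Subgroup.mem_center_iff.1 (hσ.2.1 ((hker x).1 hx)) y)
    · exact mem_commutator_sylow P (hσ.2.1 ((hker x).1 hx)) (hσ.2.2 ((hker x).1 hx)) x.2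
  obtain ⟨π, hπ⟩ := hQ.2 (↥(P : Subgroup Γ)) σP hstem
  have hmap : σP.ker.map (P : Subgroup Γ).subtype = σ.ker ⊓ (P : Subgroup Γ) := by
    ext x
    refine ⟨?_, fun hx => ⟨⟨x, hx.2⟩, (hker _).2 hx.1, rfl⟩⟩
    rintro ⟨y, hy, rfl⟩
    exact ⟨(hker y).1 hy, y.2⟩
  rw [← hmap, Nat.card_congr (σP.ker.equivMapOfInjective _ Subtype.val_injective).symm.toEquiv]
  have := Subgroup.card_dvd_of_surjective π hπ
  rwa [Nat.card_congr Multiplicative.toAdd, Nat.card_zmod] at this

/-- The prime part of the order of the kernel divides the multiplier of a Sylow subgroup. -/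
theorem factor_dvd (σ : Γ →* G) (hσ : Cfsg.IsStemExtension σ) {r : ℕ} [Fact r.Prime]
    {Q : Type} [Group Q] [Finite Q] {m : ℕ} (hQ : Cfsg.HasCyclicSchurMultiplier Q m) (ι : Q →* G)
    (hι : Function.Injective ι) {k : ℕ} (hk : Nat.card Q = r ^ k) (hGk : ¬ r ^ (k + 1) ∣ Nat.card G) :
    r ^ (Nat.card σ.ker).factorization r ∣ m := by
  let S : Sylow r σ.ker := default
  obtain ⟨P, hP⟩ := (S.isPGroup'.map σ.ker.subtype).exists_le_sylow
  rw [← S.card_eq_multiplicity,
    Nat.card_congr ((S : Subgroup σ.ker).equivMapOfInjective σ.ker.subtype Subtype.val_injective).toEquiv]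
  exact (Subgroup.card_dvd_of_le (le_inf (Subgroup.map_subtype_le _) hP)).trans
    (card_inf_sylow_dvd σ hσ hQ ι hι hk hGk P)

/-- A prime dividing the group order at most once does not divide the kernel of a stem extension. -/
theorem factor_eq_zero (σ : Γ →* G) (hσ : Cfsg.IsStemExtension σ) {r : ℕ} [Fact r.Prime]
    (hG : ¬ r ^ 2 ∣ Nat.card G) : (Nat.card σ.ker).factorization r = 0 := by
  have hr : r.Prime := Fact.out
  obtain ⟨k, hk, hk'⟩ : ∃ k, r ^ k ∣ Nat.card G ∧ ¬ r ^ (k + 1) ∣ Nat.card G ∧ k ≤ 1 := by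
    by_cases h : r ∣ Nat.card G
    · exact ⟨1, by simpa using h, hG, le_rfl⟩
    · exact ⟨0, by simp, by simpa using h, by omega⟩
  obtain ⟨H, hH⟩ := Sylow.exists_subgroup_card_pow_prime r hk
  haveI : IsCyclic H := by
    rcases Nat.le_one_iff_eq_zero_or_eq_one.1 hk'.2 with rfl | rfl
    · haveI := (Nat.card_eq_one_iff_unique.1 (hH.trans (pow_zero r))).1
      exact isCyclic_of_subsingleton
    · exact isCyclic_of_prime_card (hH.trans (pow_one r))
  have h1 := factor_dvd σ hσ (Cfsg.Agent.S3979.result (G := H)) H.subtype Subtype.val_injective hH hk'.1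
  rw [Nat.dvd_one, pow_eq_one_iff] at h1
  rcases h1 with h1 | h1
  · exact absurd h1 hr.one_lt.ne'
  · exact h1

end bound

section fibre

/-- A stem extension by coprime cyclic kernels: the fibre product of two stem extensions of one group. -/
theorem fibre {A : Type u} {B : Type v} {G : Type w} [Group A] [Group B] [Group G] [Finite A] [Finite B]
    (p : A →* G) (q : B →* G) (hp : Cfsg.IsStemExtension p) (hq : Cfsg.IsStemExtension q)
    [IsCyclic p.ker] [IsCyclic q.ker] (hco : Nat.Coprime (Nat.card p.ker) (Nat.card q.ker)) :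
    ∃ (Γ : Type (max u v)) (_ : Group Γ) (_ : Finite Γ) (π : Γ →* A),
      Cfsg.IsStemExtension (p.comp π) ∧ IsCyclic (p.comp π).ker ∧
      Nat.card (p.comp π).ker = Nat.card p.ker * Nat.card q.ker ∧
      Cfsg.IsStemExtension π ∧ IsCyclic π.ker ∧ Nat.card π.ker = Nat.card q.ker := by
  let Γ : Subgroup (A × B) := (p.comp (MonoidHom.fst A B)).eqLocus (q.comp (MonoidHom.snd A B))
  let π : Γ →* A := (MonoidHom.fst A B).comp Γ.subtype
  let ρ : Γ →* B := (MonoidHom.snd A B).comp Γ.subtype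
  have hmem : ∀ g : Γ, p (π g) = q (ρ g) := fun g => g.2
  have hπ : Function.Surjective π := fun a => by
    obtain ⟨b, hb⟩ := hq.1 (p a)
    exact ⟨⟨(a, b), hb.symm⟩, rfl⟩
  have hρ : Function.Surjective ρ := fun b => by
    obtain ⟨a, ha⟩ := hp.1 (q b)
    exact ⟨⟨(a, b), ha⟩, rfl⟩
  have hk2 : ∀ g : Γ, g ∈ (p.comp π).ker → ρ g ∈ q.ker := fun g hg => by
    rw [MonoidHom.mem_ker] at hg ⊢
    rw [← hmem]; exact hg
  let f : (p.comp π).ker ≃* p.ker × q.ker :=
    { toFun := fun g => (⟨π g.1, g.2⟩, ⟨ρ g.1, hk2 _ g.2⟩)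
      invFun := fun x => ⟨⟨(x.1.1, x.2.1), show p x.1.1 = q x.2.1 from x.1.2.trans x.2.2.symm⟩, x.1.2⟩
      left_inv := fun g => rfl
      right_inv := fun x => rfl
      map_mul' := fun g g' => rfl }
  have hcard : Nat.card (p.comp π).ker = Nat.card p.ker * Nat.card q.ker := by
    rw [Nat.card_congr f.toEquiv, Nat.card_prod]
  have hcyc : IsCyclic (p.comp π).ker := by
    obtain ⟨a, ha⟩ := IsCyclic.exists_ofOrder_eq_natCard (α := p.ker)
    obtain ⟨b, hb⟩ := IsCyclic.exists_ofOrder_eq_natCard (α := q.ker)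
    refine isCyclic_of_orderOf_eq_card (f.symm (a, b)) ?_
    rw [f.symm.orderOf_eq, Prod.orderOf, ha, hb, hcard]
    exact hco.lcm_eq_mul
  have hcomm : (p.comp π).ker ≤ commutator Γ := by
    intro g hg
    have hA : commutator A = (commutator Γ).map π := by
      rw [commutator_def, commutator_def, Subgroup.map_commutator, Subgroup.map_top_of_surjective _ hπ]
    have hB : commutator B = (commutator Γ).map ρ := by
      rw [commutator_def, commutator_def, Subgroup.map_commutator, Subgroup.map_top_of_surjective _ hρ]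
    obtain ⟨g₁, hg₁, e₁⟩ := (hA ▸ hp.2.2 hg : π g ∈ (commutator Γ).map π)
    obtain ⟨g₂, hg₂, e₂⟩ := (hB ▸ hq.2.2 (hk2 g hg) : ρ g ∈ (commutator Γ).map ρ)
    have h₁ : g₁ ∈ (p.comp π).ker := by
      rw [MonoidHom.mem_ker, MonoidHom.comp_apply, e₁]; exact hg
    have h₂ : g₂ ∈ (p.comp π).ker := by
      rw [MonoidHom.mem_ker, MonoidHom.comp_apply, hmem, e₂, ← hmem]; exact hg
    obtain ⟨c, hc0, hc1⟩ := (⟨(Nat.chineseRemainder hco 1 0).1, (Nat.chineseRemainder hco 1 0).2⟩ :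
      ∃ c, c ≡ 1 [MOD Nat.card p.ker] ∧ c ≡ 0 [MOD Nat.card q.ker])
    obtain ⟨d, hd1, hd0⟩ := (⟨(Nat.chineseRemainder hco 0 1).1, (Nat.chineseRemainder hco 0 1).2⟩ :
      ∃ d, d ≡ 0 [MOD Nat.card p.ker] ∧ d ≡ 1 [MOD Nat.card q.ker])
    have hpowA : ∀ {x : A}, x ∈ p.ker → ∀ {i j : ℕ}, i ≡ j [MOD Nat.card p.ker] → x ^ i = x ^ j :=
      fun {x} hx {i j} hij => congrArg Subtype.val (pow_eq_pow_iff_modEq.2
        (hij.of_dvd (orderOf_dvd_natCard (⟨x, hx⟩ : p.ker))) : (⟨x, hx⟩ : p.ker) ^ i = ⟨x, hx⟩ ^ j)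
    have hpowB : ∀ {x : B}, x ∈ q.ker → ∀ {i j : ℕ}, i ≡ j [MOD Nat.card q.ker] → x ^ i = x ^ j :=
      fun {x} hx {i j} hij => congrArg Subtype.val (pow_eq_pow_iff_modEq.2
        (hij.of_dvd (orderOf_dvd_natCard (⟨x, hx⟩ : q.ker))) : (⟨x, hx⟩ : q.ker) ^ i = ⟨x, hx⟩ ^ j)
    have hgeq : g = g₁ ^ c * g₂ ^ d := by
      apply Subtype.ext
      apply Prod.ext
      · show π g = π (g₁ ^ c * g₂ ^ d)
        rw [map_mul, map_pow, map_pow, e₁, hpowA hg hc0, hpowA h₂ hd1, pow_one, pow_zero, mul_one]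
      · show ρ g = ρ (g₁ ^ c * g₂ ^ d)
        rw [map_mul, map_pow, map_pow, e₂, hpowB (hk2 _ h₁) hc1, hpowB (hk2 g hg) hd0, pow_one, pow_zero,
          one_mul]
    rw [hgeq]
    exact mul_mem (pow_mem hg₁ c) (pow_mem hg₂ d)
  have hle : π.ker ≤ (p.comp π).ker := fun g hg => by
    rw [MonoidHom.mem_ker, MonoidHom.comp_apply, MonoidHom.mem_ker.1 hg, map_one]
  have hcentral : (p.comp π).ker ≤ Subgroup.center Γ := fun g hg => by
    rw [Subgroup.mem_center_iff]
    exact fun y => Subtype.ext (Prod.ext (Subgroup.mem_center_iff.1 (hp.2.1 hg) (π y))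
      (Subgroup.mem_center_iff.1 (hq.2.1 (hk2 g hg)) (ρ y)))
  let h : π.ker ≃* q.ker :=
    { toFun := fun g => ⟨ρ g.1, hk2 _ (hle g.2)⟩
      invFun := fun b => ⟨⟨(1, b.1), show p 1 = q b.1 by rw [map_one]; exact b.2.symm⟩, rfl⟩
      left_inv := fun g => Subtype.ext (Subtype.ext (Prod.ext (MonoidHom.mem_ker.1 g.2).symm rfl))
      right_inv := fun b => rfl
      map_mul' := fun g g' => rfl }
  exact ⟨Γ, inferInstance, inferInstance, π, ⟨hp.1.comp hπ, hcentral, hcomm⟩, hcyc, hcard,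
    ⟨hπ, hle.trans hcentral, hle.trans hcomm⟩, isCyclic_of_surjective h.symm h.symm.surjective,
    Nat.card_congr h.toEquiv⟩

end fibre

end Cfsg.Agent.SimpleFacts.AltMult.Tools
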