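import Cfsg.Agent.SimpleFacts.AltMult.Cover
import Cfsg.Agent.SimpleFacts.AltMult.Tools
import Cfsg.Agent.S3951
import Cfsg.Agent.S3965
import Cfsg.Agent.S0891

/-!
# The multiplier of the alternating groups of degree six and seven
-/

set_option autoImplicit false
set_option maxRecDepth 20000

namespace Cfsg.Agent.SimpleFacts.AltMult.Main

open Equiv

universe u

/-- The order of the alternating group. -/
theorem card_alt (n : ℕ) [Nontrivial (Fin n)] :
    2 * Nat.card (alternatingGroup (Fin n)) = n.factorial := by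
  have h := two_mul_nat_card_alternatingGroup (α := Fin n)
  rwa [Nat.card_eq_fintype_card (α := Equiv.Perm (Fin n)), Fintype.card_perm, Fintype.card_fin] at h

/-- The rotation. -/
def rot {n : ℕ} (a b c d e f : Fin n) : Equiv.Perm (Fin n) :=
  swap a b * swap b c * swap c d * swap e f

/-- The dihedral subgroup of order eight. -/
def dih {n : ℕ} (R S : alternatingGroup (Fin n)) : DihedralGroup 4 → alternatingGroup (Fin n)
  | .r i => R ^ i.val
  | .sr i => S * R ^ i.val

/-- The elementary subgroup of order nine. -/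
def nine {n : ℕ} (a b : alternatingGroup (Fin n)) (x : Multiplicative (ZMod 3 × ZMod 3)) :
    alternatingGroup (Fin n) :=
  a ^ (Multiplicative.toAdd x).1.val * b ^ (Multiplicative.toAdd x).2.val

theorem local_subgroups (n : ℕ) (hn : n = 6 ∨ n = 7) :
    (∃ ι : DihedralGroup 4 →* alternatingGroup (Fin n), Function.Injective ι) ∧
    (∃ ι : Multiplicative (ZMod 3 × ZMod 3) →* alternatingGroup (Fin n), Function.Injective ι) := by
  rcases hn with rfl | rfl
  · let R : alternatingGroup (Fin 6) := ⟨rot 0 1 2 3 4 5, Equiv.Perm.mem_alternatingGroup.2 (by decide +kernel)⟩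
    let S : alternatingGroup (Fin 6) := ⟨swap 0 2 * swap 4 5, Equiv.Perm.mem_alternatingGroup.2 (by decide +kernel)⟩
    let a : alternatingGroup (Fin 6) := ⟨swap 0 1 * swap 1 2, Equiv.Perm.mem_alternatingGroup.2 (by decide +kernel)⟩
    let b : alternatingGroup (Fin 6) := ⟨swap 3 4 * swap 4 5, Equiv.Perm.mem_alternatingGroup.2 (by decide +kernel)⟩
    exact ⟨⟨MonoidHom.mk' (dih R S) (by decide +kernel),
        show ∀ x y, dih R S x = dih R S y → x = y by decide +kernel⟩,
      ⟨MonoidHom.mk' (nine a b) (by decide +kernel),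
        show ∀ x y, nine a b x = nine a b y → x = y by decide +kernel⟩⟩
  · let R : alternatingGroup (Fin 7) := ⟨rot 0 1 2 3 4 5, Equiv.Perm.mem_alternatingGroup.2 (by decide +kernel)⟩
    let S : alternatingGroup (Fin 7) := ⟨swap 0 2 * swap 4 5, Equiv.Perm.mem_alternatingGroup.2 (by decide +kernel)⟩
    let a : alternatingGroup (Fin 7) := ⟨swap 0 1 * swap 1 2, Equiv.Perm.mem_alternatingGroup.2 (by decide +kernel)⟩
    let b : alternatingGroup (Fin 7) := ⟨swap 3 4 * swap 4 5, Equiv.Perm.mem_alternatingGroup.2 (by decide +kernel)⟩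
    exact ⟨⟨MonoidHom.mk' (dih R S) (by decide +kernel),
        show ∀ x y, dih R S x = dih R S y → x = y by decide +kernel⟩,
      ⟨MonoidHom.mk' (nine a b) (by decide +kernel),
        show ∀ x y, nine a b x = nine a b y → x = y by decide +kernel⟩⟩

/-- The kernel of a stem extension has order dividing six. -/
theorem ker_dvd_six_aux (n : ℕ) (hn : n = 6 ∨ n = 7) {Γ : Type} [Group Γ] [Finite Γ]
    (σ : Γ →* alternatingGroup (Fin n)) (hσ : Cfsg.IsStemExtension σ) : Nat.card σ.ker ∣ 6 := by
  haveI : Nontrivial (Fin n) := Fin.nontrivial_iff_two_le.2 (by omega)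
  have hcard : Nat.card (alternatingGroup (Fin n)) ∣ 2520 ∧
      ¬ 2 ^ 4 ∣ Nat.card (alternatingGroup (Fin n)) ∧ ¬ 3 ^ 3 ∣ Nat.card (alternatingGroup (Fin n)) := by
    rcases hn with rfl | rfl
    · rw [show Nat.card (alternatingGroup (Fin 6)) = 360 from by
        have := card_alt 6; rw [show Nat.factorial 6 = 720 from rfl] at this; omega]
      decide
    · rw [show Nat.card (alternatingGroup (Fin 7)) = 2520 from by
        have := card_alt 7; rw [show Nat.factorial 7 = 5040 from rfl] at this; omega]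
      decide
  obtain ⟨⟨ι₂, hι₂⟩, ⟨ι₃, hι₃⟩⟩ := local_subgroups n hn
  have hpos : Nat.card σ.ker ≠ 0 := Nat.card_pos.ne'
  rw [Nat.dvd_iff_prime_pow_dvd_dvd]
  intro r k hr hk
  haveI : Fact r.Prime := ⟨hr⟩
  have hle : k ≤ (Nat.card σ.ker).factorization r := (hr.pow_dvd_iff_le_factorization hpos).1 hk
  refine dvd_trans (pow_dvd_pow r hle) ?_
  rcases eq_or_ne r 2 with rfl | h2
  · exact (Tools.factor_dvd σ hσ (Cfsg.Agent.S3965.result 4 (by decide)) ι₂ hι₂ (k := 3)
      (by rw [DihedralGroup.nat_card]; rfl) hcard.2.1).trans (by norm_num)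
  rcases eq_or_ne r 3 with rfl | h3
  · exact (Tools.factor_dvd σ hσ (Cfsg.Agent.S3951.result 3 3 dvd_rfl) ι₃ hι₃ (k := 2)
      (by rw [Nat.card_congr Multiplicative.toAdd, Nat.card_prod, Nat.card_zmod]; rfl) hcard.2.2).trans
      (by norm_num)
  rw [Tools.factor_eq_zero σ hσ (r := r) fun hdvd => ?_]
  · simp
  have h := hdvd.trans hcard.1
  have hb : r ≤ 50 := by
    by_contra hb
    have h50 : 51 ^ 2 ≤ r ^ 2 := Nat.pow_le_pow_left (by omega) 2
    have := Nat.le_of_dvd (by norm_num) h
    omega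
  have key : ∀ a < 51, a.Prime → a ^ 2 ∣ 2520 → a = 2 ∨ a = 3 := by decide +kernel
  exact (key r (by omega) hr h).elim h2 h3

/-- The kernel of a stem extension in any universe has order dividing six. -/
theorem ker_dvd_six (n : ℕ) (hn : n = 6 ∨ n = 7) {Γ : Type u} [Group Γ] [Finite Γ]
    (σ : Γ →* alternatingGroup (Fin n)) (hσ : Cfsg.IsStemExtension σ) : Nat.card σ.ker ∣ 6 := by
  haveI : Small.{0} Γ := by
    obtain ⟨k, ⟨f⟩⟩ := Finite.exists_equiv_fin Γ
    exact small_map f
  let e : Shrink.{0} Γ ≃* Γ := Shrink.mulEquiv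
  let τ := σ.comp e.toMonoidHom
  have hker : τ.ker = σ.ker.map e.symm.toMonoidHom := by
    rw [Subgroup.map_equiv_eq_comap_symm', MulEquiv.symm_symm]
    exact (MonoidHom.comap_ker σ e.toMonoidHom).symm
  have hτ : Cfsg.IsStemExtension τ := by
    refine ⟨hσ.1.comp e.surjective, fun x hx => ?_, ?_⟩
    · rw [Subgroup.mem_center_iff]
      exact fun y => e.injective (by
        rw [map_mul, map_mul]; exact Subgroup.mem_center_iff.1 (hσ.2.1 hx) (e y))
    · rw [hker, _root_.commutator_def, ← Subgroup.map_top_of_surjective e.symm.toMonoidHom e.symm.surjective,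
        ← Subgroup.map_commutator, ← _root_.commutator_def]
      exact Subgroup.map_mono hσ.2.2
  have h := ker_dvd_six_aux n hn τ hτ
  rwa [hker, ← Nat.card_congr (σ.ker.equivMapOfInjective e.symm.toMonoidHom e.symm.injective).toEquiv] at h

/-- A central subgroup of squarefree order is cyclic. -/
theorem cyclic_of_squarefree {Γ : Type u} [Group Γ] [Finite Γ] (K : Subgroup Γ)
    (hK : K ≤ Subgroup.center Γ) (h : Squarefree (Nat.card K)) : IsCyclic K := by
  letI : CommGroup K :=
    { (inferInstance : Group K) with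
      mul_comm := fun x y => Subtype.ext (Subgroup.mem_center_iff.1 (hK y.2) x) }
  haveI : IsZGroup K := IsZGroup.of_squarefree h
  infer_instance

/-- A cyclic group of order dividing `N` is an image of the integers modulo `N`. -/
theorem exists_surj {K : Type u} [Group K] [IsCyclic K] {N : ℕ} (h : Nat.card K ∣ N) :
    ∃ π : Multiplicative (ZMod N) →* K, Function.Surjective π := by
  have hs : Function.Surjective (ZMod.castHom h (ZMod (Nat.card K))) := ZMod.castHom_surjective h
  exact ⟨(zmodCyclicMulEquiv (G := K) inferInstance).toMonoidHom.comp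
      (AddMonoidHom.toMultiplicative (ZMod.castHom h (ZMod (Nat.card K))).toAddMonoidHom),
    (zmodCyclicMulEquiv (G := K) inferInstance).surjective.comp fun x => hs x⟩

/-- A triple cover. -/
theorem triple (n : ℕ) (hn : n = 6 ∨ n = 7) :
    ∃ (Γ : Type) (_ : Group Γ) (_ : Finite Γ) (σ : Γ →* alternatingGroup (Fin n)),
      Cfsg.IsStemExtension σ ∧ IsCyclic σ.ker ∧ Nat.card σ.ker = 3 := by
  rcases hn with rfl | rfl
  · exact Cover.triple_six
  · exact Cover.triple_seven

/-- The multiplier is cyclic of order six. -/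
theorem multiplier (n : ℕ) (hn : n = 6 ∨ n = 7) :
    Cfsg.HasCyclicSchurMultiplier (alternatingGroup (Fin n)) 6 := by
  refine ⟨?_, fun Δ _ _ τ hτ => ?_⟩
  · obtain ⟨B, _, _, q, hq, hqc, hq3⟩ := triple n hn
    obtain ⟨A, _, _, z, hz, hz2, hzc, hzn, ⟨e⟩⟩ := Cfsg.Agent.S0891.result n (by omega)
    let p : A →* alternatingGroup (Fin n) := e.toMonoidHom.comp (QuotientGroup.mk' (Subgroup.zpowers z))
    have hpker : p.ker = Subgroup.zpowers z := by
      ext x
      rw [MonoidHom.mem_ker]
      exact (map_eq_one_iff e e.injective).trans (QuotientGroup.eq_one_iff x)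
    have hp : Cfsg.IsStemExtension p :=
      ⟨e.surjective.comp (QuotientGroup.mk'_surjective _), hpker ▸ Subgroup.zpowers_le.2 hz,
        hpker ▸ Subgroup.zpowers_le.2 hzc⟩
    have hp2 : Nat.card p.ker = 2 := by rw [hpker, Nat.card_zpowers, hz2]
    haveI : Fact (Nat.Prime 2) := ⟨Nat.prime_two⟩
    haveI : IsCyclic p.ker := isCyclic_of_prime_card hp2
    obtain ⟨Γ, _, _, π, hπ, hc, hcard, -⟩ := Tools.fibre p q hp hq (by rw [hp2, hq3]; decide)
    rw [hp2, hq3] at hcard
    exact ⟨Γ, inferInstance, inferInstance, p.comp π, hπ,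
      ⟨(hcard ▸ (zmodCyclicMulEquiv (G := (p.comp π).ker) inferInstance).symm :
        (p.comp π).ker ≃* Multiplicative (ZMod (2 * 3)))⟩⟩
  · have h := ker_dvd_six n hn τ hτ
    haveI := cyclic_of_squarefree τ.ker hτ.2.1 (((Nat.squarefree_mul (m := 2) (n := 3)
      (by decide)).2 ⟨Nat.prime_two.squarefree, Nat.prime_three.squarefree⟩).squarefree_of_dvd h)
    exact exists_surj h

end Cfsg.Agent.SimpleFacts.AltMult.Main
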