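import Cfsg.Agent.SimpleFacts.AltMult.Data
import Cfsg.Agent.S3335
import Cfsg.Prelude.Def_KGroupFacts

/-!
# Triple covers of the alternating groups of degree six and seven

Lifts of the standard generators satisfy the presentation up to the central shift, so the group they generate
modulo the shift is a nontrivial quotient of the alternating group.
-/

set_option autoImplicit false
set_option maxRecDepth 20000

namespace Cfsg.Agent.SimpleFacts.AltMult.Cover

open scoped commutatorElement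

/-- Data which produce a triple cover of an alternating group. -/
theorem exists_triple (n : ℕ) (hn : 5 ≤ n) {M : ℕ} (g : Fin (n - 2) → Equiv.Perm (Fin M))
    (z : Equiv.Perm (Fin M)) (hz : z ≠ 1) (hz3 : z ^ 3 = 1) (hc : ∀ i, z * g i = g i * z)
    (h3 : ∀ i : Fin (n - 2), i.val = 0 → ∃ t : Fin 3, g i ^ 3 = z ^ t.val)
    (h2 : ∀ i : Fin (n - 2), 1 ≤ i.val → ∃ t : Fin 3, g i ^ 2 = z ^ t.val)
    (h33 : ∀ i j : Fin (n - 2), j.val = i.val + 1 → ∃ t : Fin 3, (g i * g j) ^ 3 = z ^ t.val)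
    (h22 : ∀ i j : Fin (n - 2), i.val + 1 < j.val → ∃ t : Fin 3, (g i * g j) ^ 2 = z ^ t.val)
    (hout : ∃ i, ∀ t : Fin 3, g i ≠ z ^ t.val)
    (hcomm : ∃ a b c : Fin (n - 2), g a * (g b * g c) * (g a)⁻¹ * (g b * g c)⁻¹ = z ^ 2) :
    ∃ (Γ : Type) (_ : Group Γ) (_ : Finite Γ) (σ : Γ →* alternatingGroup (Fin n)),
      Cfsg.IsStemExtension σ ∧ IsCyclic σ.ker ∧ Nat.card σ.ker = 3 := by
  classical
  obtain ⟨e⟩ := Cfsg.Agent.S3335.result n (by omega)
  haveI : IsSimpleGroup (alternatingGroup (Fin n)) := alternatingGroup.isSimpleGroup (by simpa using hn)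
  let Γ : Subgroup (Equiv.Perm (Fin M)) := Subgroup.closure (Set.range g ∪ {z})
  have hgmem : ∀ i, g i ∈ Γ := fun i => Subgroup.subset_closure (Or.inl ⟨i, rfl⟩)
  have hzmem : z ∈ Γ := Subgroup.subset_closure (Or.inr rfl)
  let G : Fin (n - 2) → Γ := fun i => ⟨g i, hgmem i⟩
  let Z : Γ := ⟨z, hzmem⟩
  have hcent : Z ∈ Subgroup.center Γ := by
    rw [Subgroup.mem_center_iff]
    rintro ⟨x, hx⟩
    apply Subtype.ext
    show x * z = z * x
    induction hx using Subgroup.closure_induction with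
    | mem y hy =>
      rcases hy with ⟨i, rfl⟩ | rfl
      · exact (hc i).symm
      · rfl
    | one => simp
    | mul a b _ _ iha ihb => rw [mul_assoc, ihb, ← mul_assoc, iha, mul_assoc]
    | inv a _ iha => exact (Commute.inv_left iha)
  haveI : (Subgroup.zpowers Z).Normal :=
    ⟨fun x hx y => by
      rw [Subgroup.mem_center_iff.1 (Subgroup.zpowers_le.2 hcent hx) y, mul_inv_cancel_right]
      exact hx⟩
  let π : Γ →* Γ ⧸ Subgroup.zpowers Z := QuotientGroup.mk' _
  have key : ∀ {x : Γ}, (∃ t : Fin 3, (x : Equiv.Perm (Fin M)) = z ^ t.val) → π x = 1 := by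
    rintro x ⟨t, ht⟩
    rw [QuotientGroup.mk'_apply, QuotientGroup.eq_one_iff]
    refine ⟨(t.val : ℤ), Subtype.ext ?_⟩
    show ((Z ^ (t.val : ℤ) : Γ) : Equiv.Perm (Fin M)) = x
    rw [Subgroup.coe_zpow, zpow_natCast, ht]
  let φ := PresentedGroup.toGroup (G := Γ ⧸ Subgroup.zpowers Z) (f := fun i => π (G i))
    (rels := ({r : FreeGroup (Fin (n - 2)) | ∃ i : Fin (n - 2), i.val = 0 ∧ r = FreeGroup.of i ^ 3} ∪
       {r | ∃ i : Fin (n - 2), 1 ≤ i.val ∧ r = FreeGroup.of i ^ 2} ∪
       {r | ∃ i j : Fin (n - 2), j.val = i.val + 1 ∧ r = (FreeGroup.of i * FreeGroup.of j) ^ 3} ∪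
       {r | ∃ i j : Fin (n - 2), i.val + 1 < j.val ∧ r = (FreeGroup.of i * FreeGroup.of j) ^ 2}))
    (by
      rintro r (((⟨i, hi, rfl⟩ | ⟨i, hi, rfl⟩) | ⟨i, j, hij, rfl⟩) | ⟨i, j, hij, rfl⟩) <;>
        simp only [map_pow, map_mul, FreeGroup.lift_apply_of]
      · rw [← map_pow]; exact key (h3 i hi)
      · rw [← map_pow]; exact key (h2 i hi)
      · rw [← map_mul, ← map_pow]; exact key (h33 i j hij)
      · rw [← map_mul, ← map_pow]; exact key (h22 i j hij))
  have hπz : π Z = 1 := key ⟨(1 : Fin 3), (pow_one z).symm⟩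
  have hφ : Function.Surjective φ := by
    intro q
    obtain ⟨⟨x, hx⟩, rfl⟩ := QuotientGroup.mk'_surjective _ q
    show π ⟨x, hx⟩ ∈ φ.range
    induction hx using Subgroup.closure_induction with
    | mem y hy =>
      rcases hy with ⟨i, rfl⟩ | rfl
      · exact ⟨PresentedGroup.of i, PresentedGroup.toGroup.of _⟩
      · exact ⟨1, by rw [map_one]; exact hπz.symm⟩
    | one =>
      show π 1 ∈ φ.range
      rw [map_one]; exact one_mem _
    | mul a b ha hb iha ihb =>
      show π (⟨a, ha⟩ * ⟨b, hb⟩) ∈ φ.range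
      rw [map_mul]; exact mul_mem iha ihb
    | inv a ha iha =>
      show π (⟨a, ha⟩ : Γ)⁻¹ ∈ φ.range
      rw [map_inv]; exact inv_mem iha
  let ψ : alternatingGroup (Fin n) →* Γ ⧸ Subgroup.zpowers Z := φ.comp e.symm.toMonoidHom
  have hψ : Function.Surjective ψ := hφ.comp e.symm.surjective
  have hinj : Function.Injective ψ := by
    rcases (inferInstance : ψ.ker.Normal).eq_bot_or_eq_top with h | h
    · exact (MonoidHom.ker_eq_bot_iff _).1 h
    · exfalso
      obtain ⟨i, hi⟩ := hout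
      obtain ⟨a, ha⟩ := hψ (π (G i))
      rw [show ψ a = 1 from (h ▸ Subgroup.mem_top a : a ∈ ψ.ker), eq_comm,
        QuotientGroup.mk'_apply, QuotientGroup.eq_one_iff] at ha
      obtain ⟨k, hk⟩ := ha
      have hk' : z ^ k = g i := congrArg Subtype.val hk
      have h0 : (0 : ℤ) ≤ k % 3 := Int.emod_nonneg _ (by norm_num)
      have h1 : k % 3 < 3 := Int.emod_lt_of_pos _ (by norm_num)
      refine hi ⟨(k % 3).toNat, by omega⟩ ?_
      rw [← hk', ← zpow_natCast]
      show z ^ k = z ^ (((k % 3).toNat : ℕ) : ℤ)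
      rw [Int.toNat_of_nonneg h0]
      conv_lhs => rw [← Int.emod_add_mul_ediv k 3, zpow_add, zpow_mul,
        show z ^ (3 : ℤ) = 1 from hz3 ▸ zpow_natCast z 3, one_zpow, mul_one]
  let ε : alternatingGroup (Fin n) ≃* Γ ⧸ Subgroup.zpowers Z :=
    MulEquiv.ofBijective ψ ⟨hinj, hψ⟩
  let σ : Γ →* alternatingGroup (Fin n) := ε.symm.toMonoidHom.comp π
  have hker : σ.ker = Subgroup.zpowers Z := by
    ext x
    rw [MonoidHom.mem_ker]
    exact (map_eq_one_iff ε.symm ε.symm.injective).trans (QuotientGroup.eq_one_iff x)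
  refine ⟨Γ, inferInstance, inferInstance, σ, ⟨ε.symm.surjective.comp (QuotientGroup.mk'_surjective _),
    hker ▸ Subgroup.zpowers_le.2 hcent, ?_⟩, hker ▸ inferInstance, ?_⟩
  · rw [hker, Subgroup.zpowers_le]
    obtain ⟨a, b, c, habc⟩ := hcomm
    have h : Z ^ 2 ∈ commutator Γ := by
      have : Z ^ 2 = ⁅G a, G b * G c⁆ := by
        rw [commutatorElement_def]
        exact Subtype.ext habc.symm
      rw [this]
      exact Subgroup.commutator_mem_commutator (Subgroup.mem_top _) (Subgroup.mem_top _)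
    have hsq : (Z ^ 2) ^ 2 = Z := by
      have : Z ^ 3 = 1 := Subtype.ext hz3
      rw [← pow_mul, show 2 * 2 = 3 + 1 from rfl, pow_add, this, one_mul, pow_one]
    exact hsq ▸ pow_mem h 2
  · rw [hker, Nat.card_zpowers, ← Subgroup.orderOf_coe]
    exact orderOf_eq_prime (hp := ⟨Nat.prime_three⟩) hz3 hz

open Data in
/-- The triple cover in degree six. -/
theorem triple_six : ∃ (Γ : Type) (_ : Group Γ) (_ : Finite Γ) (σ : Γ →* alternatingGroup (Fin 6)),
    Cfsg.IsStemExtension σ ∧ IsCyclic σ.ker ∧ Nat.card σ.ker = 3 :=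
  exists_triple 6 (by norm_num) gensSix zSix (by decide +kernel) (by decide +kernel) (by decide +kernel)
    (by decide +kernel) (by decide +kernel) (by decide +kernel) (by decide +kernel) (by decide +kernel)
    ⟨(0 : Fin 4), (2 : Fin 4), (3 : Fin 4), by decide +kernel⟩

open Data in
/-- The triple cover in degree seven. -/
theorem triple_seven : ∃ (Γ : Type) (_ : Group Γ) (_ : Finite Γ) (σ : Γ →* alternatingGroup (Fin 7)),
    Cfsg.IsStemExtension σ ∧ IsCyclic σ.ker ∧ Nat.card σ.ker = 3 :=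
  exists_triple 7 (by norm_num) gensSeven zSeven (by decide +kernel) (by decide +kernel) (by decide +kernel)
    (by decide +kernel) (by decide +kernel) (by decide +kernel) (by decide +kernel) (by decide +kernel)
    ⟨(0 : Fin 5), (2 : Fin 5), (3 : Fin 5), by decide +kernel⟩

end Cfsg.Agent.SimpleFacts.AltMult.Cover
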