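import Mathlib

/-!
Permutation data for the triple covers of the alternating groups of degree six and seven.
-/

set_option autoImplicit false
set_option maxRecDepth 20000

namespace Cfsg.Agent.SimpleFacts.AltMult.Data

/-- The point with the listed image. -/
def img (M : ℕ) [NeZero M] (l : List ℕ) (i : Fin M) : Fin M := Fin.ofNat M (l.getD i.1 0)

/-- A permutation from a list of images and the list of preimages. -/
def mkPerm (M : ℕ) [NeZero M] (l m : List ℕ) (h1 : ∀ i, img M m (img M l i) = i)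
    (h2 : ∀ i, img M l (img M m i) = i) : Equiv.Perm (Fin M) := ⟨img M l, img M m, h1, h2⟩

/-- Permutation `g0Six`. -/
def g0Six : Equiv.Perm (Fin 18) :=
  mkPerm 18 [3, 4, 5, 6, 7, 8, 0, 1, 2, 9, 10, 11, 14, 12, 13, 16, 17, 15]
    [6, 7, 8, 0, 1, 2, 3, 4, 5, 9, 10, 11, 13, 14, 12, 17, 15, 16]
    (by decide +kernel) (by decide +kernel)

/-- Permutation `g1Six`. -/
def g1Six : Equiv.Perm (Fin 18) :=
  mkPerm 18 [3, 4, 5, 0, 1, 2, 9, 10, 11, 6, 7, 8, 12, 13, 14, 15, 16, 17]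
    [3, 4, 5, 0, 1, 2, 9, 10, 11, 6, 7, 8, 12, 13, 14, 15, 16, 17]
    (by decide +kernel) (by decide +kernel)

/-- Permutation `g2Six`. -/
def g2Six : Equiv.Perm (Fin 18) :=
  mkPerm 18 [4, 5, 3, 0, 1, 2, 8, 6, 7, 13, 14, 12, 9, 10, 11, 17, 15, 16]
    [3, 4, 5, 2, 0, 1, 7, 8, 6, 12, 13, 14, 11, 9, 10, 16, 17, 15]
    (by decide +kernel) (by decide +kernel)

/-- Permutation `g3Six`. -/
def g3Six : Equiv.Perm (Fin 18) :=
  mkPerm 18 [3, 4, 5, 0, 1, 2, 6, 7, 8, 9, 10, 11, 15, 16, 17, 12, 13, 14]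
    [3, 4, 5, 0, 1, 2, 6, 7, 8, 9, 10, 11, 15, 16, 17, 12, 13, 14]
    (by decide +kernel) (by decide +kernel)

/-- Permutation `zSix`. -/
def zSix : Equiv.Perm (Fin 18) :=
  mkPerm 18 [1, 2, 0, 4, 5, 3, 7, 8, 6, 10, 11, 9, 13, 14, 12, 16, 17, 15]
    [2, 0, 1, 5, 3, 4, 8, 6, 7, 11, 9, 10, 14, 12, 13, 17, 15, 16]
    (by decide +kernel) (by decide +kernel)

/-- The lifted generators, degree 6. -/
def gensSix : Fin 4 → Equiv.Perm (Fin 18) := ![g0Six, g1Six, g2Six, g3Six]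

/-- Permutation `g0Seven`. -/
def g0Seven : Equiv.Perm (Fin 45) :=
  mkPerm 45 [5, 3, 4, 10, 11, 9, 24, 25, 26, 0, 1, 2, 34, 35, 33, 30, 31, 32, 14, 12, 13, 16, 17, 15, 28, 29, 27, 8, 6, 7, 23, 21, 22, 18, 19, 20, 40, 41, 39, 42, 43, 44, 38, 36, 37]
    [9, 10, 11, 1, 2, 0, 28, 29, 27, 5, 3, 4, 19, 20, 18, 23, 21, 22, 33, 34, 35, 31, 32, 30, 6, 7, 8, 26, 24, 25, 15, 16, 17, 14, 12, 13, 43, 44, 42, 38, 36, 37, 39, 40, 41]
    (by decide +kernel) (by decide +kernel)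

/-- Permutation `g1Seven`. -/
def g1Seven : Equiv.Perm (Fin 45) :=
  mkPerm 45 [6, 7, 8, 18, 19, 20, 0, 1, 2, 30, 31, 32, 27, 28, 29, 24, 25, 26, 3, 4, 5, 33, 34, 35, 15, 16, 17, 12, 13, 14, 9, 10, 11, 21, 22, 23, 36, 37, 38, 39, 40, 41, 42, 43, 44]
    [6, 7, 8, 18, 19, 20, 0, 1, 2, 30, 31, 32, 27, 28, 29, 24, 25, 26, 3, 4, 5, 33, 34, 35, 15, 16, 17, 12, 13, 14, 9, 10, 11, 21, 22, 23, 36, 37, 38, 39, 40, 41, 42, 43, 44]
    (by decide +kernel) (by decide +kernel)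

/-- Permutation `g2Seven`. -/
def g2Seven : Equiv.Perm (Fin 45) :=
  mkPerm 45 [9, 10, 11, 3, 4, 5, 24, 25, 26, 0, 1, 2, 36, 37, 38, 30, 31, 32, 39, 40, 41, 21, 22, 23, 6, 7, 8, 27, 28, 29, 15, 16, 17, 42, 43, 44, 12, 13, 14, 18, 19, 20, 33, 34, 35]
    [9, 10, 11, 3, 4, 5, 24, 25, 26, 0, 1, 2, 36, 37, 38, 30, 31, 32, 39, 40, 41, 21, 22, 23, 6, 7, 8, 27, 28, 29, 15, 16, 17, 42, 43, 44, 12, 13, 14, 18, 19, 20, 33, 34, 35]
    (by decide +kernel) (by decide +kernel)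

/-- Permutation `g3Seven`. -/
def g3Seven : Equiv.Perm (Fin 45) :=
  mkPerm 45 [12, 13, 14, 18, 19, 20, 27, 28, 29, 33, 34, 35, 0, 1, 2, 15, 16, 17, 3, 4, 5, 30, 31, 32, 24, 25, 26, 6, 7, 8, 21, 22, 23, 9, 10, 11, 42, 43, 44, 39, 40, 41, 36, 37, 38]
    [12, 13, 14, 18, 19, 20, 27, 28, 29, 33, 34, 35, 0, 1, 2, 15, 16, 17, 3, 4, 5, 30, 31, 32, 24, 25, 26, 6, 7, 8, 21, 22, 23, 9, 10, 11, 42, 43, 44, 39, 40, 41, 36, 37, 38]
    (by decide +kernel) (by decide +kernel)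

/-- Permutation `g4Seven`. -/
def g4Seven : Equiv.Perm (Fin 45) :=
  mkPerm 45 [15, 16, 17, 21, 22, 23, 24, 25, 26, 30, 31, 32, 12, 13, 14, 0, 1, 2, 33, 34, 35, 3, 4, 5, 6, 7, 8, 27, 28, 29, 9, 10, 11, 18, 19, 20, 36, 37, 38, 42, 43, 44, 39, 40, 41]
    [15, 16, 17, 21, 22, 23, 24, 25, 26, 30, 31, 32, 12, 13, 14, 0, 1, 2, 33, 34, 35, 3, 4, 5, 6, 7, 8, 27, 28, 29, 9, 10, 11, 18, 19, 20, 36, 37, 38, 42, 43, 44, 39, 40, 41]
    (by decide +kernel) (by decide +kernel)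

/-- Permutation `zSeven`. -/
def zSeven : Equiv.Perm (Fin 45) :=
  mkPerm 45 [1, 2, 0, 4, 5, 3, 7, 8, 6, 10, 11, 9, 13, 14, 12, 16, 17, 15, 19, 20, 18, 22, 23, 21, 25, 26, 24, 28, 29, 27, 31, 32, 30, 34, 35, 33, 37, 38, 36, 40, 41, 39, 43, 44, 42]
    [2, 0, 1, 5, 3, 4, 8, 6, 7, 11, 9, 10, 14, 12, 13, 17, 15, 16, 20, 18, 19, 23, 21, 22, 26, 24, 25, 29, 27, 28, 32, 30, 31, 35, 33, 34, 38, 36, 37, 41, 39, 40, 44, 42, 43]
    (by decide +kernel) (by decide +kernel)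

/-- The lifted generators, degree 7. -/
def gensSeven : Fin 5 → Equiv.Perm (Fin 45) := ![g0Seven, g1Seven, g2Seven, g3Seven, g4Seven]

end Cfsg.Agent.SimpleFacts.AltMult.Data
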